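import Mathlib

/-!
# Coprime action of a `p`-group with all orbits of length at most `p`

If a finite `p`-group `S` acts on an abelian group `A` without `p`-torsion and all the orbits have
length `1` or `p`, then the kernel of the action has index `1` or `p`.
-/

set_option autoImplicit false
set_option linter.style.haveILetI false

namespace Cfsg.Agent.R2.H1.Sqf

section

variable {S A : Type*} [Group S] [CommGroup A]

/-- the stabilizer -/
def stb (φ : S →* MulAut A) (a : A) : Subgroup S where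
  carrier := {s | φ s a = a}
  one_mem' := by simp
  mul_mem' := by
    intro s t hs ht
    change φ (s * t) a = a
    rw [map_mul, MulAut.mul_apply, ht, hs]
  inv_mem' := by
    intro s hs
    change φ s⁻¹ a = a
    have h : φ s a = a := hs
    conv_lhs => rw [← h]
    rw [map_inv, MulAut.inv_apply_self]

theorem mem_stb {φ : S →* MulAut A} {a : A} {s : S} : s ∈ stb φ a ↔ φ s a = a := Iff.rfl

variable [Finite S]

/-- the norm -/
noncomputable def nm (φ : S →* MulAut A) (K : Subgroup S) (a : A) : A :=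
  letI := Fintype.ofFinite K
  ∏ k : K, φ (k : S) a

theorem nm_mul (φ : S →* MulAut A) (K : Subgroup S) (a b : A) :
    nm φ K (a * b) = nm φ K a * nm φ K b := by
  letI := Fintype.ofFinite K
  change ∏ k : K, φ (k : S) (a * b) = (∏ k : K, φ (k : S) a) * ∏ k : K, φ (k : S) b
  rw [← Finset.prod_mul_distrib]
  exact Finset.prod_congr rfl fun k _ => map_mul _ _ _

theorem nm_inv (φ : S →* MulAut A) (K : Subgroup S) (a : A) :
    nm φ K a⁻¹ = (nm φ K a)⁻¹ := by
  letI := Fintype.ofFinite K
  change ∏ k : K, φ (k : S) a⁻¹ = (∏ k : K, φ (k : S) a)⁻¹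
  rw [← Finset.prod_inv_distrib]
  exact Finset.prod_congr rfl fun k _ => map_inv _ _

theorem nm_pow (φ : S →* MulAut A) (K : Subgroup S) (a : A) (n : ℕ) :
    nm φ K (a ^ n) = nm φ K a ^ n := by
  letI := Fintype.ofFinite K
  change ∏ k : K, φ (k : S) (a ^ n) = (∏ k : K, φ (k : S) a) ^ n
  rw [← Finset.prod_pow]
  exact Finset.prod_congr rfl fun k _ => map_pow _ _ _

theorem nm_fixed (φ : S →* MulAut A) (K : Subgroup S) (a : A) (h : ∀ k ∈ K, φ k a = a) :
    nm φ K a = a ^ Nat.card K := by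
  letI := Fintype.ofFinite K
  change ∏ k : K, φ (k : S) a = a ^ Nat.card K
  rw [Finset.prod_congr rfl fun (k : K) _ => h k k.2, Finset.prod_const, Finset.card_univ,
    Nat.card_eq_fintype_card]

theorem nm_inv_left (φ : S →* MulAut A) (K : Subgroup S) (a : A) {k : S} (hk : k ∈ K) :
    φ k (nm φ K a) = nm φ K a := by
  letI := Fintype.ofFinite K
  change φ k (∏ k : K, φ (k : S) a) = ∏ k : K, φ (k : S) a
  rw [map_prod]
  refine Fintype.prod_equiv (Equiv.mulLeft (⟨k, hk⟩ : K)) _ _ fun j => ?_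
  rw [Equiv.coe_mulLeft, Subgroup.coe_mul, map_mul, MulAut.mul_apply]

theorem nm_conj (φ : S →* MulAut A) (K : Subgroup S) [hK : K.Normal] (a : A) (s : S) :
    φ s (nm φ K a) = nm φ K (φ s a) := by
  letI := Fintype.ofFinite K
  change φ s (∏ k : K, φ (k : S) a) = ∏ k : K, φ (k : S) (φ s a)
  rw [map_prod]
  refine Fintype.prod_equiv (MulAut.conjNormal s : MulAut K).toEquiv _ _ fun j => ?_
  rw [MulEquiv.toEquiv_eq_coe, MulEquiv.coe_toEquiv, MulAut.conjNormal_apply, ← MulAut.mul_apply,
    ← MulAut.mul_apply, ← map_mul, ← map_mul]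
  congr 2
  group

/-- **Coprime action with small orbits.** -/
theorem exists_kernel (φ : S →* MulAut A) {p : ℕ} (hp : p.Prime) (hS : IsPGroup p S)
    (hA : ∀ (a : A) (n : ℕ), a ^ p ^ n = 1 → a = 1) (hidx : ∀ a : A, (stb φ a).index ∣ p) :
    ∃ K : Subgroup S, K.index ∣ p ∧ ∀ k ∈ K, ∀ a : A, φ k a = a := by
  classical
  haveI := Fact.mk hp
  by_cases h0 : ∀ a : A, stb φ a = ⊤
  · exact ⟨⊤, by simp, fun k _ a => by
      have : k ∈ stb φ a := by rw [h0 a]; exact Subgroup.mem_top k
      exact this⟩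
  push Not at h0
  obtain ⟨a, ha⟩ := h0
  have hKp : (stb φ a).index = p := by
    rcases (Nat.dvd_prime hp).1 (hidx a) with h | h
    · exact absurd (Subgroup.index_eq_one.1 h) ha
    · exact h
  set K := stb φ a with hK
  obtain ⟨n, hn⟩ := IsPGroup.iff_card.1 hS
  haveI hKn : K.Normal := by
    have h1 : K.index = (Nat.card S).minFac := by
      rw [hKp, hn]
      have hn0 : n ≠ 0 := by
        rintro rfl
        rw [pow_zero] at hn
        have h2 := K.index_dvd_card
        rw [hn, hKp] at h2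
        exact hp.one_lt.ne' (Nat.dvd_one.1 h2)
      exact (Nat.Prime.pow_minFac hp hn0).symm
    exact Subgroup.normal_of_index_eq_minFac_card h1
  obtain ⟨m, hm⟩ : ∃ m, Nat.card K = p ^ m := by
    have h1 := Subgroup.card_subgroup_dvd_card K
    rw [hn] at h1
    obtain ⟨m, -, hm⟩ := (Nat.dvd_prime_pow hp).1 h1
    exact ⟨m, hm⟩
  have hcop : ∀ b c : A, b ^ Nat.card K = c ^ Nat.card K → b = c := by
    intro b c h
    have h1 : (b * c⁻¹) ^ p ^ m = 1 := by
      rw [mul_pow, inv_pow, ← hm, h, mul_inv_cancel]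
    exact mul_inv_eq_one.1 (hA _ _ h1)
  refine ⟨K, hKp.dvd, ?_⟩
  intro k hk b
  by_contra hkb
  -- the part of `b` with trivial norm
  set b' := b ^ Nat.card K * (nm φ K b)⁻¹ with hb'
  have hN1 : nm φ K b' = 1 := by
    rw [hb', nm_mul, nm_pow, nm_inv, nm_fixed φ K (nm φ K b) (fun j hj => nm_inv_left φ K b hj),
      mul_inv_cancel]
  have hb1 : φ k b' ≠ b' := by
    intro h
    apply hkb
    rw [hb', map_mul, map_pow, map_inv, nm_inv_left φ K b hk] at h
    exact hcop _ _ (mul_right_cancel h)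
  have hsub : stb φ (a * b') ≤ K ⊓ stb φ b' := by
    intro s hs
    have hs' : φ s (a * b') = a * b' := hs
    have h1 : φ s (nm φ K (a * b')) = nm φ K (a * b') := by rw [nm_conj, hs']
    rw [nm_mul, hN1, mul_one, nm_fixed φ K a (fun j hj => hj), map_pow] at h1
    have h2 : φ s a = a := hcop _ _ h1
    refine ⟨h2, ?_⟩
    rw [map_mul, h2] at hs'
    exact mul_left_cancel hs'
  have hlt : K ⊓ stb φ b' < K := by
    refine lt_of_le_of_ne inf_le_left fun h => hb1 ?_
    have : k ∈ K ⊓ stb φ b' := by rw [h]; exact hk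
    exact this.2
  have h1 : (K ⊓ stb φ b').index ∣ p := (Subgroup.index_dvd_of_le hsub).trans (hidx _)
  have h2 : (K ⊓ stb φ b').relIndex K * K.index = (K ⊓ stb φ b').index :=
    Subgroup.relIndex_mul_index hlt.le
  rw [← h2, hKp] at h1
  have h3 : (K ⊓ stb φ b').relIndex K = 1 := by
    obtain ⟨c, hc⟩ := h1
    have h4 : (K ⊓ stb φ b').relIndex K * c = 1 := by
      apply Nat.eq_of_mul_eq_mul_right hp.pos
      rw [one_mul]
      conv_rhs => rw [hc]
      ring
    exact Nat.eq_one_of_mul_eq_one_right h4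
  exact hlt.not_ge (Subgroup.relIndex_eq_one.1 h3)

end

end Cfsg.Agent.R2.H1.Sqf
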